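import Cfsg.Agent.H213.Q2.Model

/-!
# S5262, q = 2: automorphisms of the subgroups `Q`, in codes (helper213)

`Q ≤ U` is the subgroup of the elements with codes in `Gd lo hi`. `im γ c` is the code of the image of the element with
code `c` under `γ ∈ Aut(Q)`.
-/

set_option autoImplicit false

namespace Cfsg.Agent.H213.Q2

universe u v

theorem map_evU {G : Type u} {H : Type v} [Group G] [Group H] (φ : G →* H) (l : ℕ → G) (k i c : ℕ) :
    φ (evU l k i c) = evU (fun j => φ (l j)) k i c := by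
  induction k generalizing i c with
  | zero => simp [evU]
  | succ k ih =>
    rw [evU, evU, map_mul, ih]
    split_ifs <;> simp

theorem evU_congr {G : Type u} [Group G] {l l' : ℕ → G} : ∀ {k i c : ℕ},
    (∀ j, c.testBit j = true → l (i + j) = l' (i + j)) → evU l k i c = evU l' k i c := by
  intro k
  induction k with
  | zero => intro i c _; rfl
  | succ k ih =>
    intro i c h
    rw [evU, evU]
    have h1 := ih (i := i + 1) (c := c / 2) fun j hj => by
      rw [← Nat.testBit_succ] at hj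
      have := h (j + 1) hj
      rwa [show i + 1 + j = i + (j + 1) by omega]
    rw [h1]
    by_cases h2 : c % 2 = 1
    · have h3 := h 0 (by simpa [Nat.testBit_zero] using h2)
      rw [Nat.add_zero] at h3
      rw [if_pos h2, if_pos h2, h3]
    · rw [if_neg h2, if_neg h2]

theorem Gd.bit {lo hi c j : ℕ} (h : Gd lo hi c) (hj : c.testBit j = true) : lo ≤ j ∧ j < hi := by
  constructor
  · by_contra h0
    obtain ⟨e, he⟩ := h.2
    rw [he, Nat.testBit_two_pow_mul] at hj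
    simp only [Bool.and_eq_true, decide_eq_true_eq] at hj
    omega
  · by_contra h0
    have h2 : c < 2 ^ j := h.1.trans_le (Nat.pow_le_pow_right (by norm_num) (by omega))
    rw [Nat.testBit_lt_two_pow h2] at hj
    exact absurd hj (by decide)

theorem EE_congr {G : Type u} [Group G] {l l' : ℕ → G} {lo hi c : ℕ} (hc : Gd lo hi c)
    (h : ∀ i, lo ≤ i → i < hi → l i = l' i) : EE l c = EE l' c :=
  evU_congr fun j hj => by
    have := hc.bit hj
    rw [Nat.zero_add]
    exact h j this.1 this.2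

theorem map_EE {G : Type u} {H : Type v} [Group G] [Group H] (φ : G →* H) (l : ℕ → G) (c : ℕ) :
    φ (EE l c) = EE (fun j => φ (l j)) c := map_evU φ l 12 0 c

theorem gd_pow {lo hi i : ℕ} (h1 : lo ≤ i) (h2 : i < hi) : Gd lo hi (2 ^ i) :=
  ⟨Nat.pow_lt_pow_right (by norm_num) h2, pow_dvd_pow 2 h1⟩

theorem Gd.lt {lo hi c : ℕ} (h : Gd lo hi c) (hh : hi ≤ 12) : c < 4096 :=
  h.1.trans_le (Nat.pow_le_pow_right (by norm_num) hh)

theorem gd_mul {lo hi : ℕ} (A : Adm lo hi) {c d : ℕ} (hc : Gd lo hi c) (hd : Gd lo hi d) : Gd lo hi (mulN c d) := by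
  have R : Rel (fun _ : ℕ => (1 : Multiplicative (ZMod 2))) lo hi := by
    refine ⟨fun l m _ _ _ => ?_, fun l _ _ => ?_⟩
    · simp [pW]
    · simp [pW]
  exact (EE_mul A R hc hd).2

theorem gd_eN {f : ℕ → ℕ} {lo hi : ℕ} (A : Adm lo hi) : ∀ k i a c, Gd lo hi a →
    (∀ j, c.testBit j = true → Gd lo hi (f (i + j))) → Gd lo hi (eN f k i a c) := by
  intro k
  induction k with
  | zero => intro i a c ha _; exact ha
  | succ k ih =>
    intro i a c ha hf
    rw [eN, fN_eq, fN_eq]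
    refine ih _ _ _ ?_ fun j hj => ?_
    · by_cases h : c % 2 = 1
      · have hb : Nat.beq (c % 2) 1 = true := by rw [h]; rfl
        rw [hb, cond_true]
        exact gd_mul A ha (by simpa using hf 0 (by simpa [Nat.testBit_zero] using h))
      · have h' : c % 2 = 0 := by omega
        have hb : Nat.beq (c % 2) 1 = false := by rw [h']; rfl
        rw [hb, cond_false]
        exact ha
    · rw [← Nat.testBit_succ] at hj
      have := hf (j + 1) hj
      rwa [show i + 1 + j = i + (j + 1) by omega]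

theorem gd_evN {f : ℕ → ℕ} {lo hi : ℕ} (A : Adm lo hi) (hf : ∀ i, lo ≤ i → i < hi → Gd lo hi (f i)) {c : ℕ}
    (hc : Gd lo hi c) : Gd lo hi (evN f c) := by
  rw [evN, fN_eq]
  refine gd_eN A 12 0 0 c ⟨by positivity, dvd_zero _⟩ fun j hj => ?_
  have := hc.bit hj
  rw [Nat.zero_add]
  exact hf j this.1 this.2

theorem ckInv_spec {f f' : ℕ → ℕ} {lo hi : ℕ} (h : ckInv f f' lo hi = true) :
    ∀ i, lo ≤ i → i < hi → evN f (f' i) = 2 ^ i ∧ Gd lo hi (f' i) := by
  intro i h1 h2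
  have h3 := allN_iff.1 h i h2
  rw [Bool.or_eq_true, Bool.and_eq_true, Bool.and_eq_true] at h3
  rcases h3 with h3 | ⟨⟨h3, h4⟩, h5⟩
  · exact absurd (blt_iff.1 h3) (by omega)
  · exact ⟨beq_iff.1 h3, blt_iff.1 h5, Nat.dvd_of_mod_eq_zero (beq_iff.1 h4)⟩

section

variable {U : Type u} [Group U] {L : ℕ → U} (M : Mdl L) {lo hi : ℕ} (A : Adm lo hi) {Q : Subgroup U}
  (hQ : ∀ g, g ∈ Q ↔ Gd lo hi (code M g))
include M A hQ

theorem EE_mem {c : ℕ} (hc : Gd lo hi c) : EE L c ∈ Q := by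
  rw [hQ, code_EE M (hc.lt A.le)]
  exact hc

theorem L_mem {i : ℕ} (h1 : lo ≤ i) (h2 : i < hi) : L i ∈ Q := by
  rw [← EE_two_pow (L := L) (h2.trans_le A.le)]
  exact EE_mem M A hQ (gd_pow h1 h2)

/-- the letters of `Q` -/
noncomputable def lQ (_ : Mdl L) (_ : Adm lo hi) (_ : ∀ g, g ∈ Q ↔ Gd lo hi (code M g)) (i : ℕ) : Q :=
  open Classical in if h : L i ∈ Q then ⟨L i, h⟩ else 1

theorem coe_lQ {i : ℕ} (h1 : lo ≤ i) (h2 : i < hi) : ((lQ M M A hQ i : Q) : U) = L i := by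
  rw [lQ, dif_pos (L_mem M A hQ h1 h2)]

theorem coe_EE {c : ℕ} (hc : Gd lo hi c) : ((EE (lQ M M A hQ) c : Q) : U) = EE L c := by
  have h1 := map_EE Q.subtype (lQ M M A hQ) c
  rw [Subgroup.coe_subtype] at h1
  rw [h1]
  exact EE_congr hc fun i h1 h2 => coe_lQ M A hQ h1 h2

theorem eq_EE (g : Q) : g = EE (lQ M M A hQ) (code M g) := by
  apply Subtype.ext
  rw [coe_EE M A hQ ((hQ _).1 g.2), EE_code]

/-- homomorphisms from `Q` agree if they agree on the letters -/
theorem hom_ext {H : Type v} [Group H] {φ ψ : Q →* H}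
    (h : ∀ i, lo ≤ i → i < hi → φ (lQ M M A hQ i) = ψ (lQ M M A hQ i)) : φ = ψ := by
  ext g
  rw [eq_EE M A hQ g, map_EE, map_EE]
  exact EE_congr ((hQ _).1 g.2) h

/-- the homomorphism with images `f` -/
noncomputable def homQ (f : ℕ → ℕ) (h : ckRel f lo hi = true) : Q →* U where
  toFun g := mp M f g
  map_one' := by
    have h0 : code M ((1 : Q) : U) = 0 := code_one M
    rw [mp, h0]
    have : evN f 0 = 0 := by
      obtain ⟨hf, -⟩ := rel_of_ck M A.le h
      have := (evN_sound M hf 0).1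
      rw [EE_zero, ← EE_zero (L := L)] at this
      exact M.inj _ _ (evN_sound M hf 0).2 (by norm_num) this
    rw [this, EE_zero]
  map_mul' g g' := mp_mul M A h ((hQ _).1 g.2) ((hQ _).1 g'.2)

theorem homQ_apply (f : ℕ → ℕ) (h : ckRel f lo hi = true) (g : Q) :
    homQ M A hQ f h g = EE L (evN f (code M g)) := rfl

/-- the endomorphism with images `f` -/
noncomputable def endQ (f : ℕ → ℕ) (h : ckRel f lo hi = true) (hf : ∀ i, lo ≤ i → i < hi → Gd lo hi (f i)) : Q →* Q :=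
  (homQ M A hQ f h).codRestrict Q fun g => by
    rw [homQ_apply]
    exact EE_mem M A hQ (gd_evN A hf ((hQ _).1 g.2))

theorem endQ_apply (f : ℕ → ℕ) (h : ckRel f lo hi = true) (hf : ∀ i, lo ≤ i → i < hi → Gd lo hi (f i)) (g : Q) :
    ((endQ M A hQ f h hf g : Q) : U) = EE L (evN f (code M g)) := rfl

theorem endQ_comp {f f' : ℕ → ℕ} (h : ckRel f lo hi = true) (hf : ∀ i, lo ≤ i → i < hi → Gd lo hi (f i))
    (h' : ckRel f' lo hi = true) (hf' : ∀ i, lo ≤ i → i < hi → Gd lo hi (f' i))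
    (hi1 : ∀ i, lo ≤ i → i < hi → evN f (f' i) = 2 ^ i) :
    (endQ M A hQ f h hf).comp (endQ M A hQ f' h' hf') = MonoidHom.id Q := by
  refine hom_ext M A hQ fun i h1 h2 => ?_
  have hA := A.le
  have hf4 := (rel_of_ck M A.le h').1
  apply Subtype.ext
  rw [MonoidHom.comp_apply, endQ_apply, endQ_apply, coe_lQ M A hQ h1 h2]
  have e1 : code M (L i) = 2 ^ i := by
    rw [← EE_two_pow (L := L) (by omega : i < 12), code_EE M (Nat.pow_lt_pow_right (by norm_num) (by omega : i < 12))]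
  have e2 : evN f' (2 ^ i) = f' i := by
    have h3 := (evN_sound M hf4 (2 ^ i)).1
    rw [EE_two_pow (by omega : i < 12)] at h3
    exact M.inj _ _ (evN_sound M hf4 _).2 (hf4 i (by omega)) h3
  rw [e1, e2, code_EE M (hf4 i (by omega)), hi1 i h1 h2, EE_two_pow (by omega)]
  simp [coe_lQ M A hQ h1 h2]

end

/-- all the checks for an automorphism with images `f`, inverse `f'` -/
def ckAut (f f' : ℕ → ℕ) (lo hi : ℕ) : Bool :=
  ckRel f lo hi && ckRel f' lo hi && ckInv f f' lo hi && ckInv f' f lo hi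

theorem ckAut_spec {f f' : ℕ → ℕ} {lo hi : ℕ} (h : ckAut f f' lo hi = true) :
    ckRel f lo hi = true ∧ ckRel f' lo hi = true ∧ (∀ i, lo ≤ i → i < hi → evN f (f' i) = 2 ^ i ∧ Gd lo hi (f' i)) ∧
      (∀ i, lo ≤ i → i < hi → evN f' (f i) = 2 ^ i ∧ Gd lo hi (f i)) := by
  unfold ckAut at h
  simp only [Bool.and_eq_true] at h
  obtain ⟨⟨⟨h1, h2⟩, h3⟩, h4⟩ := h
  exact ⟨h1, h2, ckInv_spec h3, ckInv_spec h4⟩

section

variable {U : Type u} [Group U] {L : ℕ → U} (M : Mdl L) {lo hi : ℕ} (A : Adm lo hi) {Q : Subgroup U}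
  (hQ : ∀ g, g ∈ Q ↔ Gd lo hi (code M g))

/-- the automorphism with images `f` -/
noncomputable def autQ (f f' : ℕ → ℕ) (h : ckAut f f' lo hi = true) : MulAut Q :=
  have h' := ckAut_spec h
  MonoidHom.toMulEquiv (endQ M A hQ f h'.1 fun i h1 h2 => (h'.2.2.2 i h1 h2).2)
    (endQ M A hQ f' h'.2.1 fun i h1 h2 => (h'.2.2.1 i h1 h2).2)
    (endQ_comp M A hQ _ _ _ _ fun i h1 h2 => (h'.2.2.2 i h1 h2).1)
    (endQ_comp M A hQ _ _ _ _ fun i h1 h2 => (h'.2.2.1 i h1 h2).1)

theorem autQ_apply {f f' : ℕ → ℕ} (h : ckAut f f' lo hi = true) (g : Q) :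
    ((autQ M A hQ f f' h g : Q) : U) = EE L (evN f (code M g)) := rfl

theorem autQ_inv_apply {f f' : ℕ → ℕ} (h : ckAut f f' lo hi = true) (g : Q) :
    (((autQ M A hQ f f' h)⁻¹ g : Q) : U) = EE L (evN f' (code M g)) := rfl

/-- the code of the image of the element with code `c` -/
noncomputable def im (M : Mdl L) {Q : Subgroup U} (γ : MulAut Q) (c : ℕ) : ℕ :=
  open Classical in if h : EE L c ∈ Q then code M ((γ ⟨EE L c, h⟩ : Q) : U) else 0

theorem im_eq (γ : MulAut Q) (g : Q) : im M γ (code M (g : U)) = code M ((γ g : Q) : U) := by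
  have h : EE L (code M (g : U)) ∈ Q := by rw [EE_code]; exact g.2
  rw [im, dif_pos h]
  congr 3
  exact Subtype.ext (EE_code M _)

include A hQ

theorem im_eq' (γ : MulAut Q) {c : ℕ} (hc : Gd lo hi c) :
    im M γ c = code M ((γ ⟨EE L c, EE_mem M A hQ hc⟩ : Q) : U) := by
  rw [im, dif_pos (EE_mem M A hQ hc)]

theorem im_gd (γ : MulAut Q) {c : ℕ} (hc : Gd lo hi c) : Gd lo hi (im M γ c) := by
  rw [im_eq' M A hQ γ hc]
  exact (hQ _).1 (γ _).2

theorem im_mul (γ : MulAut Q) {c d : ℕ} (hc : Gd lo hi c) (hd : Gd lo hi d) :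
    im M γ (mulN c d) = mulN (im M γ c) (im M γ d) := by
  rw [im_eq' M A hQ γ hc, im_eq' M A hQ γ hd, im_eq' M A hQ γ (gd_mul A hc hd), ← code_mul M, ← Subgroup.coe_mul,
    ← map_mul]
  congr 3
  exact Subtype.ext (mul_EE M (hc.lt A.le) (hd.lt A.le)).symm

theorem im_comp (γ δ : MulAut Q) {c : ℕ} (hc : Gd lo hi c) : im M (γ * δ) c = im M γ (im M δ c) := by
  rw [im_eq' M A hQ (γ * δ) hc, im_eq' M A hQ δ hc, im_eq M γ]
  rfl

theorem im_one {c : ℕ} (hc : Gd lo hi c) : im M (1 : MulAut Q) c = c := by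
  rw [im_eq' M A hQ 1 hc]
  exact code_EE M (hc.lt A.le)

theorem im_inj (γ : MulAut Q) {c d : ℕ} (hc : Gd lo hi c) (hd : Gd lo hi d) (e : im M γ c = im M γ d) : c = d := by
  rw [im_eq' M A hQ γ hc, im_eq' M A hQ γ hd] at e
  have h1 := γ.injective (Subtype.ext (code_inj M e))
  have h2 := congrArg Subtype.val h1
  exact M.inj _ _ (hc.lt A.le) (hd.lt A.le) h2

theorem im_autQ {f f' : ℕ → ℕ} (h : ckAut f f' lo hi = true) {c : ℕ} (hc : Gd lo hi c) :
    im M (autQ M A hQ f f' h) c = evN f c := by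
  rw [im_eq' M A hQ _ hc, autQ_apply, code_EE M]
  · rw [code_EE M (hc.lt A.le)]
  · exact (evN_sound M (rel_of_ck M A.le (ckAut_spec h).1).1 _).2

theorem im_autQ_inv {f f' : ℕ → ℕ} (h : ckAut f f' lo hi = true) {c : ℕ} (hc : Gd lo hi c) :
    im M (autQ M A hQ f f' h)⁻¹ c = evN f' c := by
  rw [im_eq' M A hQ _ hc, autQ_inv_apply, code_EE M]
  · rw [code_EE M (hc.lt A.le)]
  · exact (evN_sound M (rel_of_ck M A.le (ckAut_spec h).2.1).1 _).2

/-- automorphisms agree if they agree on the letters -/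
theorem aut_ext {γ δ : MulAut Q} (h : ∀ i, lo ≤ i → i < hi → im M γ (2 ^ i) = im M δ (2 ^ i)) : γ = δ := by
  have : (γ : Q →* Q) = (δ : Q →* Q) := by
    refine hom_ext M A hQ fun i h1 h2 => ?_
    have h3 := h i h1 h2
    rw [im_eq' M A hQ _ (gd_pow h1 h2), im_eq' M A hQ _ (gd_pow h1 h2)] at h3
    have h4 := Subtype.ext (code_inj M h3)
    have e : (⟨EE L (2 ^ i), EE_mem M A hQ (gd_pow h1 h2)⟩ : Q) = lQ M M A hQ i := by
      apply Subtype.ext
      rw [coe_lQ M A hQ h1 h2]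
      exact EE_two_pow (h2.trans_le A.le)
    rw [← e]
    exact h4
  ext g
  have h1 := DFunLike.congr_fun this g
  exact congrArg Subtype.val h1

end

end Cfsg.Agent.H213.Q2
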