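import Cfsg.Agent.H213.Q2.Tab

/-!
# S5262, q = 2: soundness of the tables (helper213)

* `Rel L lo hi` : the letters `L i`, `lo ≤ i < hi`, satisfy the polycyclic relations;
* `EE L c` : the ordered product of the letters in the bits of `c`;
* `EE_mul` : `EE L c * EE L d = EE L (mulN c d)`.
-/

set_option autoImplicit false

namespace Cfsg.Agent.H213.Q2

universe u v

variable {G : Type u} [Group G] {L : ℕ → G}

/-- product of the letters of a word -/
def pW (L : ℕ → G) (w : List ℕ) : G := (w.map L).prod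

theorem pW_cons (i : ℕ) (w : List ℕ) : pW L (i :: w) = L i * pW L w := by simp [pW]

theorem pW_nil : pW L [] = 1 := by simp [pW]

/-- the polycyclic relations -/
structure Rel (L : ℕ → G) (lo hi : ℕ) : Prop where
  cm : ∀ l m, lo ≤ l → l < m → m < hi → L l * L m = L m * L l * pW L (cwd l m)
  sq : ∀ l, lo ≤ l → l < hi → L l * L l = pW L (pwd l)

/-- the ordered product of the letters `L i, L (i+1), …` in the bits of `c` -/
def evU (L : ℕ → G) : ℕ → ℕ → ℕ → G
  | 0, _, _ => 1
  | k + 1, i, c => (if c % 2 = 1 then L i else 1) * evU L k (i + 1) (c / 2)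

theorem evU_zero (k i : ℕ) : evU L k i 0 = 1 := by
  induction k generalizing i with
  | zero => rfl
  | succ k ih => simp [evU, ih]

theorem evU_add {m : ℕ} : ∀ {k i c : ℕ}, m < k → c < 2 ^ m → evU L k i (c + 2 ^ m) = evU L k i c * L (i + m) := by
  induction m with
  | zero =>
    intro k i c hk hc
    obtain ⟨k, rfl⟩ := Nat.exists_eq_succ_of_ne_zero (by omega : k ≠ 0)
    have h0 : c = 0 := by simpa using hc
    subst h0
    simp [evU, evU_zero]
  | succ m ih =>
    intro k i c hk hc
    obtain ⟨k, rfl⟩ := Nat.exists_eq_succ_of_ne_zero (by omega : k ≠ 0)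
    have e : (2 : ℕ) ^ (m + 1) = 2 * 2 ^ m := by ring
    have h1 : (c + 2 ^ (m + 1)) % 2 = c % 2 := by omega
    have h2 : (c + 2 ^ (m + 1)) / 2 = c / 2 + 2 ^ m := by omega
    have h3 : c / 2 < 2 ^ m := by omega
    have e2 : i + 1 + m = i + (m + 1) := by omega
    rw [evU, evU, h1, h2, ih (by omega) h3, mul_assoc, e2]

/-- the element with code `c` -/
def EE (L : ℕ → G) (c : ℕ) : G := evU L 12 0 c

theorem EE_zero : EE L 0 = 1 := evU_zero 12 0

theorem EE_add {m c : ℕ} (hm : m < 12) (hc : c < 2 ^ m) : EE L (c + 2 ^ m) = EE L c * L m := by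
  unfold EE
  rw [evU_add hm hc, Nat.zero_add]

theorem EE_two_pow {m : ℕ} (hm : m < 12) : EE L (2 ^ m) = L m := by
  have := EE_add (L := L) (c := 0) hm (by positivity)
  rwa [Nat.zero_add, EE_zero, one_mul] at this

theorem fN_eq {α : Type} (n : ℕ) (k : ℕ → α) : fN n k = k n := by
  unfold fN
  cases n <;> rfl

theorem allN_iff {n : ℕ} {f : ℕ → Bool} : allN n f = true ↔ ∀ m < n, f m = true := by
  induction n with
  | zero => simp [allN]
  | succ n ih =>
    have : allN (n + 1) f = (fN n f && allN n f) := rfl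
    rw [this, fN_eq, Bool.and_eq_true, ih]
    constructor
    · rintro ⟨h1, h2⟩ m hm
      rcases Nat.lt_succ_iff_lt_or_eq.1 hm with h | rfl
      · exact h2 m h
      · exact h1
    · intro h
      exact ⟨h n (by omega), fun m hm => h m (by omega)⟩

theorem lk_lt (l c : ℕ) : lk l c < 4096 := by
  unfold lk
  exact lt_of_le_of_lt Nat.and_le_right (by norm_num)

theorem okT_all {l : ℕ} (hl : l < 12) : okT l = true := by
  interval_cases l
  exacts [ok0, ok1, ok2, ok3, ok4, ok5, ok6, ok7, ok8, ok9, ok10, ok11]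

theorem lk_zero {l : ℕ} (hl : l < 12) : lk l 0 = 2 ^ l := by
  have h := okT_all hl
  unfold okT at h
  rw [Bool.and_eq_true] at h
  exact Nat.eq_of_beq_eq_true h.1

theorem okP_all {l m : ℕ} (hl : l < 12) (hm : m < 12) : okP l m = true := by
  have h := okT_all hl
  unfold okT at h
  rw [Bool.and_eq_true] at h
  exact allN_iff.1 h.2 m hm

theorem lk_above {l m c : ℕ} (hl : l < 12) (hm : m < l) (hc : c < 2 ^ m) : lk l (c + 2 ^ m) = c + 2 ^ m + 2 ^ l := by
  have h := okP_all hl (hm.trans hl)
  unfold okP at h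
  rw [if_pos hm] at h
  exact Nat.eq_of_beq_eq_true (allN_iff.1 h c hc)

theorem lk_self {l c : ℕ} (hl : l < 12) (hc : c < 2 ^ l) : lk l (c + 2 ^ l) = foldW (pwd l) c := by
  have h := okP_all hl hl
  unfold okP at h
  rw [if_neg (lt_irrefl l), if_pos rfl] at h
  exact Nat.eq_of_beq_eq_true (allN_iff.1 h c hc)

theorem lk_below {l m c : ℕ} (hm : m < 12) (hl : l < m) (hc : c < 2 ^ m) :
    foldW (cwd l m) (lk l (c + 2 ^ m)) = lk m (lk l c) := by
  have h := okP_all (hl.trans hm) hm
  unfold okP at h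
  rw [if_neg (by omega), if_neg (by omega)] at h
  exact Nat.eq_of_beq_eq_true (allN_iff.1 h c hc)

theorem cwd_mem {l m i : ℕ} (hlm : l < m) (hm : m < 12) (hi : i ∈ cwd l m) : l < i ∧ i < m := by
  have key : ∀ l < 12, ∀ m < 12, l < m → ∀ i ∈ cwd l m, l < i ∧ i < m := by decide
  exact key l (by omega) m hm hlm i hi

theorem pwd_mem {l i : ℕ} (hl : l < 12) (hi : i ∈ pwd l) : i = l + 1 ∧ (l = 1 ∨ l = 4 ∨ l = 7 ∨ l = 10) := by
  have key : ∀ l < 12, ∀ i ∈ pwd l, i = l + 1 ∧ (l = 1 ∨ l = 4 ∨ l = 7 ∨ l = 10) := by decide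
  exact key l hl i hi

/-- the codes of the subgroup generated by the letters `lo ≤ i < hi` -/
def Gd (lo hi c : ℕ) : Prop := c < 2 ^ hi ∧ 2 ^ lo ∣ c

/-- the range of letters is admissible -/
structure Adm (lo hi : ℕ) : Prop where
  le : hi ≤ 12
  up : hi = 10 ∨ hi = 12
  cl : ∀ l, lo ≤ l → l < hi → ∀ c, Gd lo hi c → Gd lo hi (lk l c)

section sound

variable {lo hi : ℕ} (A : Adm lo hi) (R : Rel L lo hi)
include A

theorem fold_sound {w : List ℕ} (hw : ∀ i ∈ w, lo ≤ i ∧ i < hi ∧ ∀ c, Gd lo hi c → EE L c * L i = EE L (lk i c)) :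
    ∀ c, Gd lo hi c → EE L (foldW w c) = EE L c * pW L w ∧ Gd lo hi (foldW w c) := by
  induction w with
  | nil => intro c hc; exact ⟨by simp [foldW, pW], hc⟩
  | cons i w ih =>
    intro c hc
    obtain ⟨h1, h2, h3⟩ := hw i (by simp)
    have h4 := ih (fun j hj => hw j (by simp [hj])) (lk i c) (A.cl i h1 h2 c hc)
    have e : foldW (i :: w) c = foldW w (lk i c) := rfl
    rw [e]
    refine ⟨?_, h4.2⟩
    rw [h4.1, ← h3 c hc, pW_cons, mul_assoc]

include R

theorem sound_aux (k : ℕ) : ∀ l, lo ≤ l → l < hi → hi - l ≤ k → ∀ c, Gd lo hi c → EE L c * L l = EE L (lk l c) := by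
  induction k with
  | zero => intro l _ h2 h3; omega
  | succ k IH =>
    intro l hl hl2 hk
    have hhi := A.le
    have hi12 : l < 12 := by omega
    -- the claims for higher letters
    have hup : ∀ i, l < i → i < hi → ∀ c, Gd lo hi c → EE L c * L i = EE L (lk i c) := fun i h1 h2 =>
      IH i (by omega) h2 (by omega)
    have key : ∀ n, n ≤ hi → ∀ c, c < 2 ^ n → 2 ^ lo ∣ c → EE L c * L l = EE L (lk l c) := by
      intro n
      induction n with
      | zero =>
        intro _ c hc _
        have h0 : c = 0 := by simpa using hc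
        subst h0
        rw [EE_zero, one_mul, lk_zero hi12, EE_two_pow hi12]
      | succ n ih =>
        intro hn c hc hd
        by_cases hcn : c < 2 ^ n
        · exact ih (by omega) c hcn hd
        obtain ⟨c', rfl⟩ : ∃ c', c = c' + 2 ^ n := ⟨c - 2 ^ n, by omega⟩
        have hc' : c' < 2 ^ n := by
          have : (2 : ℕ) ^ (n + 1) = 2 * 2 ^ n := by ring
          omega
        have hlon : lo ≤ n := by
          by_contra h
          have h1 : 2 ^ (n + 1) ≤ 2 ^ lo := Nat.pow_le_pow_right (by norm_num) (by omega)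
          have h2 := Nat.le_of_dvd (by positivity) hd
          omega
        have hd' : 2 ^ lo ∣ c' := (Nat.dvd_add_left (pow_dvd_pow 2 hlon)).1 hd
        have hg' : Gd lo hi c' := ⟨hc'.trans_le (Nat.pow_le_pow_right (by norm_num) (by omega)), hd'⟩
        have hg : Gd lo hi (c' + 2 ^ n) := ⟨hc.trans_le (Nat.pow_le_pow_right (by norm_num) hn), hd⟩
        rw [EE_add (by omega) hc']
        rcases lt_trichotomy n l with h | rfl | h
        · rw [lk_above hi12 h hc', EE_add hi12 (lt_of_lt_of_le hc (Nat.pow_le_pow_right (by norm_num) h)),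
            EE_add (by omega) hc']
        · rw [lk_self hi12 hc', mul_assoc, R.sq n hl hl2]
          refine ((fold_sound A (fun i hi' => ?_) c' hg').1).symm
          obtain ⟨rfl, h2⟩ := pwd_mem hi12 hi'
          have h3 : n + 1 < hi := by
            rcases A.up with h | h <;> omega
          exact ⟨by omega, h3, hup _ (by omega) h3⟩
        · have h1 := fold_sound A (w := cwd l n) (fun i hi' => by
            obtain ⟨h1, h2⟩ := cwd_mem h (by omega) hi'
            exact ⟨by omega, by omega, hup _ h1 (by omega)⟩) (lk l (c' + 2 ^ n)) (A.cl l hl hl2 _ hg)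
          have h2 := h1.1
          rw [lk_below (by omega) h hc', ← hup n h (by omega) _ (A.cl l hl hl2 _ hg'), ← ih (by omega) c' hc' hd',
            mul_assoc, R.cm l n hl h (by omega)] at h2
          apply mul_right_cancel (b := pW L (cwd l n))
          rw [← h2]
          simp only [mul_assoc]
    intro c hc
    exact key hi le_rfl c hc.1 hc.2

theorem sound {l : ℕ} (hl : lo ≤ l) (hl2 : l < hi) {c : ℕ} (hc : Gd lo hi c) : EE L c * L l = EE L (lk l c) :=
  sound_aux A R _ l hl hl2 le_rfl c hc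

end sound

/-- multiply `c` by the letters `i, i+1, …` in the bits of `d` -/
def mB : ℕ → ℕ → ℕ → ℕ → ℕ
  | 0, _, c, _ => c
  | k + 1, i, c, d => fN (bif Nat.beq (d % 2) 1 then lk i c else c) fun c => fN (d / 2) fun d => mB k (i + 1) c d

/-- the product of codes -/
def mulN (c d : ℕ) : ℕ := fN d fun d => mB 12 0 c d

theorem mB_sound {lo hi : ℕ} (A : Adm lo hi) (R : Rel L lo hi) :
    ∀ k i c d, i + k = 12 → Gd lo hi c → (∀ j, d.testBit j = true → lo ≤ i + j ∧ i + j < hi) →
    EE L c * evU L k i d = EE L (mB k i c d) ∧ Gd lo hi (mB k i c d) := by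
  intro k
  induction k with
  | zero => intro i c d _ hc _; exact ⟨by simp [evU, mB], hc⟩
  | succ k ih =>
    intro i c d hik hc hd
    rw [mB, fN_eq, fN_eq, evU]
    have hd' : ∀ j, (d / 2).testBit j = true → lo ≤ i + 1 + j ∧ i + 1 + j < hi := by
      intro j hj
      rw [← Nat.testBit_succ] at hj
      have := hd (j + 1) hj
      omega
    by_cases h : d % 2 = 1
    · have hb : Nat.beq (d % 2) 1 = true := by rw [h]; rfl
      have h0 := hd 0 (by simpa [Nat.testBit_zero] using h)
      rw [if_pos h, hb, cond_true, ← mul_assoc, sound A R (by omega) (by omega) hc]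
      exact ih (i + 1) _ _ (by omega) (A.cl i (by omega) (by omega) c hc) hd'
    · have h' : d % 2 = 0 := by omega
      have hb : Nat.beq (d % 2) 1 = false := by rw [h']; rfl
      rw [if_neg h, hb, cond_false, one_mul]
      exact ih (i + 1) _ _ (by omega) hc hd'

theorem EE_mul {lo hi : ℕ} (A : Adm lo hi) (R : Rel L lo hi) {c d : ℕ} (hc : Gd lo hi c) (hd : Gd lo hi d) :
    EE L c * EE L d = EE L (mulN c d) ∧ Gd lo hi (mulN c d) := by
  rw [mulN, fN_eq]
  refine mB_sound A R 12 0 c d (by omega) hc fun j hj => ?_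
  have h1 : j < hi := by
    by_contra h
    have h2 : d < 2 ^ j := hd.1.trans_le (Nat.pow_le_pow_right (by norm_num) (by omega))
    rw [Nat.testBit_lt_two_pow h2] at hj
    exact absurd hj (by decide)
  have h2 : lo ≤ j := by
    by_contra h
    obtain ⟨e, he⟩ := hd.2
    rw [he, Nat.testBit_two_pow_mul] at hj
    simp only [Bool.and_eq_true, decide_eq_true_eq] at hj
    omega
  omega

end Cfsg.Agent.H213.Q2
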