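import Cfsg.Agent.H213.Q2.Core

/-!
# S5262, q = 2: a group with 12 letters, its codes, homomorphisms and automorphisms from images (helper213)
-/

set_option autoImplicit false

namespace Cfsg.Agent.H213.Q2

universe u

theorem clA : (allN 10 fun l => allN 1024 fun c => Nat.blt (lk l c) 1024) = true := by decide +kernel

theorem clB : (allN 11 fun l => allN 2048 fun c => Nat.beq (lk (l + 1) (2 * c) % 2) 0) = true := by decide +kernel

theorem gd_zero {hi c : ℕ} : Gd 0 hi c ↔ c < 2 ^ hi := by simp [Gd]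

theorem adm012 : Adm 0 12 where
  le := le_rfl
  up := Or.inr rfl
  cl := fun l _ _ c _ => gd_zero.2 (lk_lt l c)

theorem blt_iff {a b : ℕ} : Nat.blt a b = true ↔ a < b := by
  simp [Nat.blt_eq]

theorem beq_iff {a b : ℕ} : Nat.beq a b = true ↔ a = b :=
  ⟨Nat.eq_of_beq_eq_true, fun h => by subst h; exact Nat.beq_refl a⟩

theorem adm010 : Adm 0 10 where
  le := by norm_num
  up := Or.inl rfl
  cl := fun l _ hl c hc => by
    rw [gd_zero] at hc ⊢
    exact blt_iff.1 (allN_iff.1 (allN_iff.1 clA l hl) c hc)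

theorem adm112 : Adm 1 12 where
  le := le_rfl
  up := Or.inr rfl
  cl := fun l hl hl2 c hc => by
    obtain ⟨h1, d, rfl⟩ := hc
    obtain ⟨k, rfl⟩ : ∃ k, l = k + 1 := ⟨l - 1, by omega⟩
    refine ⟨lk_lt _ _, ?_⟩
    have := beq_iff.1 (allN_iff.1 (allN_iff.1 clB k (by omega)) d (by norm_num at h1 ⊢; omega))
    rw [pow_one]
    exact Nat.dvd_of_mod_eq_zero this

/-- `U` is the group of order `2^12` with letters `L` -/
structure Mdl {U : Type u} [Group U] (L : ℕ → U) : Prop where
  rel : Rel L 0 12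
  surj : ∀ g, ∃ c, c < 4096 ∧ EE L c = g
  inj : ∀ c d, c < 4096 → d < 4096 → EE L c = EE L d → c = d

theorem mulN_lt {c d : ℕ} (hc : c < 4096) (hd : d < 4096) : mulN c d < 4096 := by
  have R : Rel (fun _ : ℕ => (1 : Multiplicative (ZMod 2))) 0 12 := by
    refine ⟨fun l m _ _ _ => ?_, fun l _ _ => ?_⟩
    · simp [pW]
    · simp [pW]
  exact (EE_mul adm012 R (gd_zero.2 hc) (gd_zero.2 hd)).2.1

section

variable {U : Type u} [Group U] {L : ℕ → U} (M : Mdl L)
include M

/-- the code of an element -/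
noncomputable def code (g : U) : ℕ := Classical.choose (M.surj g)

theorem code_lt (g : U) : code M g < 4096 := (Classical.choose_spec (M.surj g)).1

theorem EE_code (g : U) : EE L (code M g) = g := (Classical.choose_spec (M.surj g)).2

theorem code_EE {c : ℕ} (hc : c < 4096) : code M (EE L c) = c := M.inj _ _ (code_lt M _) hc (EE_code M _)

theorem mul_EE {c d : ℕ} (hc : c < 4096) (hd : d < 4096) : EE L c * EE L d = EE L (mulN c d) :=
  (EE_mul adm012 M.rel (gd_zero.2 hc) (gd_zero.2 hd)).1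

theorem code_mul (g h : U) : code M (g * h) = mulN (code M g) (code M h) := by
  conv_lhs => rw [← EE_code M g, ← EE_code M h]
  rw [mul_EE M (code_lt M g) (code_lt M h), code_EE M (mulN_lt (code_lt M g) (code_lt M h))]

theorem code_inj {g h : U} (e : code M g = code M h) : g = h := by
  rw [← EE_code M g, ← EE_code M h, e]

theorem finite_of : Finite U := by
  refine Finite.of_surjective (fun c : Fin 4096 => EE L c) fun g => ?_
  exact ⟨⟨code M g, code_lt M g⟩, EE_code M g⟩

theorem code_one : code M 1 = 0 := by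
  rw [← EE_zero (L := L)]; exact code_EE M (by norm_num)

end

/-! ### words in images -/

/-- product of the images of a word -/
def pwN (f : ℕ → ℕ) (w : List ℕ) : ℕ := w.foldl (fun c i => mulN c (f i)) 0

/-- evaluate the homomorphism with images `f` -/
def eN (f : ℕ → ℕ) : ℕ → ℕ → ℕ → ℕ → ℕ
  | 0, _, a, _ => a
  | k + 1, i, a, c => fN (bif Nat.beq (c % 2) 1 then mulN a (f i) else a) fun a => fN (c / 2) fun c => eN f k (i + 1) a c

/-- evaluate the homomorphism with images `f` at the code `c` -/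
def evN (f : ℕ → ℕ) (c : ℕ) : ℕ := fN c fun c => eN f 12 0 0 c

/-- the images `f` satisfy the relations between the letters `lo ≤ i < hi` -/
def ckRel (f : ℕ → ℕ) (lo hi : ℕ) : Bool :=
  (allN 12 fun i => Nat.blt (f i) 4096) &&
  (allN hi fun m => Nat.blt m lo ||
    (Nat.beq (mulN (f m) (f m)) (pwN f (pwd m)) &&
      allN m fun l => Nat.blt l lo || Nat.beq (mulN (f l) (f m)) (mulN (mulN (f m) (f l)) (pwN f (cwd l m)))))

section

variable {U : Type u} [Group U] {L : ℕ → U} (M : Mdl L)
include M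

theorem pwN_sound {f : ℕ → ℕ} {w : List ℕ} (hw : ∀ i ∈ w, f i < 4096) :
    EE L (pwN f w) = pW (fun i => EE L (f i)) w ∧ pwN f w < 4096 := by
  have key : ∀ w : List ℕ, (∀ i ∈ w, f i < 4096) → ∀ a < 4096,
      EE L (w.foldl (fun c i => mulN c (f i)) a) = EE L a * pW (fun i => EE L (f i)) w ∧
        w.foldl (fun c i => mulN c (f i)) a < 4096 := by
    intro w
    induction w with
    | nil => intro _ a ha; exact ⟨by simp [pW], ha⟩
    | cons i w ih =>
      intro hw a ha
      have h1 := hw i (by simp)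
      have := ih (fun j hj => hw j (by simp [hj])) (mulN a (f i)) (mulN_lt ha h1)
      rw [List.foldl_cons, this.1, ← mul_EE M ha h1, pW_cons, mul_assoc]
      exact ⟨rfl, this.2⟩
  have := key w hw 0 (by norm_num)
  rw [EE_zero, one_mul] at this
  exact this

theorem eN_sound {f : ℕ → ℕ} : ∀ k i a c, (∀ j, j < i + k → f j < 4096) → a < 4096 →
    EE L (eN f k i a c) = EE L a * evU (fun i => EE L (f i)) k i c ∧ eN f k i a c < 4096 := by
  intro k
  induction k with
  | zero => intro i a c _ ha; exact ⟨by simp [evU, eN], ha⟩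
  | succ k ih =>
    intro i a c hf ha
    rw [eN, fN_eq, fN_eq, evU]
    by_cases h : c % 2 = 1
    · have hb : Nat.beq (c % 2) 1 = true := by rw [h]; rfl
      have h1 := ih (i + 1) (mulN a (f i)) (c / 2) (fun j hj => hf j (by omega)) (mulN_lt ha (hf i (by omega)))
      rw [if_pos h, hb, cond_true, h1.1, ← mul_EE M ha (hf i (by omega)), mul_assoc]
      exact ⟨rfl, h1.2⟩
    · have h' : c % 2 = 0 := by omega
      have hb : Nat.beq (c % 2) 1 = false := by rw [h']; rfl
      have h1 := ih (i + 1) a (c / 2) (fun j hj => hf j (by omega)) ha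
      rw [if_neg h, hb, cond_false, h1.1, one_mul]
      exact ⟨rfl, h1.2⟩

theorem evN_sound {f : ℕ → ℕ} (hf : ∀ j < 12, f j < 4096) (c : ℕ) :
    EE L (evN f c) = EE (fun i => EE L (f i)) c ∧ evN f c < 4096 := by
  have := eN_sound M 12 0 0 c (fun j hj => hf j (by omega)) (by norm_num)
  rw [EE_zero, one_mul] at this
  rw [evN, fN_eq]
  exact this

theorem rel_of_ck {f : ℕ → ℕ} {lo hi : ℕ} (hhi : hi ≤ 12) (h : ckRel f lo hi = true) :
    (∀ j < 12, f j < 4096) ∧ Rel (fun i => EE L (f i)) lo hi := by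
  unfold ckRel at h
  rw [Bool.and_eq_true] at h
  have hf : ∀ j < 12, f j < 4096 := fun j hj => blt_iff.1 (allN_iff.1 h.1 j hj)
  have h2 := allN_iff.1 h.2
  have h3 : ∀ m, lo ≤ m → m < hi → mulN (f m) (f m) = pwN f (pwd m) ∧
      ∀ l, lo ≤ l → l < m → mulN (f l) (f m) = mulN (mulN (f m) (f l)) (pwN f (cwd l m)) := by
    intro m hm hm2
    have h4 := h2 m hm2
    rw [Bool.or_eq_true, Bool.and_eq_true] at h4
    rcases h4 with h4 | ⟨h4, h5⟩
    · exact absurd (blt_iff.1 h4) (by omega)
    · refine ⟨beq_iff.1 h4, fun l hl hlm => ?_⟩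
      have h6 := allN_iff.1 h5 l hlm
      rw [Bool.or_eq_true] at h6
      rcases h6 with h6 | h6
      · exact absurd (blt_iff.1 h6) (by omega)
      · exact beq_iff.1 h6
  refine ⟨hf, fun l m hl hlm hm => ?_, fun l hl hl2 => ?_⟩
  · have hfl := hf l (by omega)
    have hfm := hf m (by omega)
    have hp := pwN_sound M (f := f) (w := cwd l m) fun i hi' => hf i (by
      have := cwd_mem hlm (by omega) hi'; omega)
    show EE L (f l) * EE L (f m) = EE L (f m) * EE L (f l) * pW (fun i => EE L (f i)) (cwd l m)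
    rw [← hp.1, mul_EE M hfl hfm, mul_EE M hfm hfl, mul_EE M (mulN_lt hfm hfl) hp.2, (h3 m (by omega) hm).2 l hl hlm]
  · have hfl := hf l (by omega)
    have hp := pwN_sound M (f := f) (w := pwd l) fun i hi' => hf i (by
      have := pwd_mem (by omega : l < 12) hi'; omega)
    show EE L (f l) * EE L (f l) = pW (fun i => EE L (f i)) (pwd l)
    rw [← hp.1, mul_EE M hfl hfl, (h3 l hl hl2).1]

/-- the map with images `f` -/
noncomputable def mp (f : ℕ → ℕ) (g : U) : U := EE L (evN f (code M g))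

theorem mp_EE {f : ℕ → ℕ} {c : ℕ} (hc : c < 4096) : mp M f (EE L c) = EE L (evN f c) := by
  rw [mp, code_EE M hc]

theorem code_mp {f : ℕ → ℕ} (hf : ∀ j < 12, f j < 4096) (g : U) : code M (mp M f g) = evN f (code M g) := by
  rw [mp, code_EE M (evN_sound M hf _).2]

theorem mp_mul {f : ℕ → ℕ} {lo hi : ℕ} (A : Adm lo hi) (h : ckRel f lo hi = true) {g g' : U}
    (hg : Gd lo hi (code M g)) (hg' : Gd lo hi (code M g')) : mp M f (g * g') = mp M f g * mp M f g' := by
  obtain ⟨hf, R⟩ := rel_of_ck M A.le h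
  unfold mp
  rw [(evN_sound M hf _).1, (evN_sound M hf _).1, (evN_sound M hf _).1, code_mul, ← (EE_mul A R hg hg').1]

end

/-- the images `f` and `f'` define inverse maps on the letters `lo ≤ i < hi` -/
def ckInv (f f' : ℕ → ℕ) (lo hi : ℕ) : Bool :=
  allN hi fun i => Nat.blt i lo || (Nat.beq (evN f (f' i)) (2 ^ i) && Nat.beq (f' i % 2 ^ lo) 0 && Nat.blt (f' i) (2 ^ hi))

end Cfsg.Agent.H213.Q2
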